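import Groth.Prelude.Def_W4c3severiratdpLat
import Mathlib.Algebra.Order.Chebyshev
import Mathlib.Data.Finset.Max
import Mathlib.Data.List.Nodup
import Mathlib.Tactic.Linarith
import Mathlib.Tactic.Ring
import Mathlib.Tactic.Abel
import Mathlib.Tactic.IntervalCases

/-!
Computations in the lattice `DP δ`: enumeration of classes with given self-intersection and
degree, reflections in roots, descent to terminal (dominant) classes.
-/

namespace Groth.Agent.DPLat

open W4c3severiratdp

/-- The range of the coordinates `b`. -/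
def bRange : List ℤ := (List.range 25).map fun (k : ℕ) => (k : ℤ) - 12

theorem mem_bRange {b : ℤ} (h : b * b ≤ 168) : b ∈ bRange := by
  have h1 : -13 < b := by nlinarith
  have h2 : b < 13 := by nlinarith
  exact List.mem_map.mpr ⟨(b + 12).toNat, List.mem_range.mpr (by omega), by omega⟩

theorem nodup_bRange : bRange.Nodup := by decide +kernel

/-- All vectors with given sum and sum of squares. -/
def enum : (n : ℕ) → ℤ → ℤ → List (Fin n → ℤ)
  | 0, s, q => if s = 0 ∧ q = 0 then [Fin.elim0] else []
  | n + 1, s, q => bRange.flatMap fun b =>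
      if b * b ≤ q ∧ (s - b) * (s - b) ≤ n * (q - b * b) then
        (enum n (s - b) (q - b * b)).map (Fin.cons b)
      else []

theorem mem_enum {n : ℕ} {s q : ℤ} (hq : q ≤ 168) (v : Fin n → ℤ) :
    v ∈ enum n s q ↔ ∑ i, v i = s ∧ ∑ i, v i * v i = q := by
  induction n generalizing s q with
  | zero =>
    simp only [enum, Finset.univ_eq_empty, Finset.sum_empty]
    split_ifs with h
    · simp [h, Subsingleton.elim v Fin.elim0]
    · simp only [List.not_mem_nil, false_iff]
      rintro ⟨rfl, rfl⟩
      exact h ⟨rfl, rfl⟩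
  | succ n ih =>
    simp only [enum, List.mem_flatMap, Fin.sum_univ_succ]
    constructor
    · rintro ⟨b, -, hb⟩
      split_ifs at hb with h
      · obtain ⟨t, ht, rfl⟩ := List.mem_map.mp hb
        have hbb := mul_self_nonneg b
        obtain ⟨h1, h2⟩ := (ih (by linarith) t).mp ht
        simp only [Fin.cons_zero, Fin.cons_succ]
        omega
      · simp at hb
    · rintro ⟨h1, h2⟩
      have h0 := mul_self_nonneg (v 0)
      have hnn : 0 ≤ ∑ i : Fin n, v i.succ * v i.succ := Finset.sum_nonneg fun i _ => mul_self_nonneg _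
      have hcs : (∑ i : Fin n, v i.succ) * (∑ i : Fin n, v i.succ) ≤
          n * ∑ i : Fin n, v i.succ * v i.succ := by
        have := sq_sum_le_card_mul_sum_sq (s := (Finset.univ : Finset (Fin n))) (f := fun i => v i.succ)
        simpa [sq] using this
      refine ⟨v 0, mem_bRange (by linarith), ?_⟩
      rw [if_pos ⟨by linarith, by rw [show s - v 0 = ∑ i : Fin n, v i.succ by linarith,
        show q - v 0 * v 0 = ∑ i : Fin n, v i.succ * v i.succ by linarith]; exact hcs⟩]
      exact List.mem_map.mpr ⟨Fin.tail v, (ih (by linarith) _).mpr ⟨by simp only [Fin.tail]; linarith,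
        by simp only [Fin.tail]; linarith⟩, Fin.cons_self_tail v⟩

theorem nodup_enum (n : ℕ) (s q : ℤ) : (enum n s q).Nodup := by
  induction n generalizing s q with
  | zero => simp only [enum]; split_ifs <;> simp
  | succ n ih =>
    refine List.nodup_flatMap.mpr ⟨fun b _ => ?_, nodup_bRange.imp ?_⟩
    · split_ifs
      · exact (ih _ _).map fun x y h => (Fin.cons_right_injective (α := fun _ => ℤ) b) h
      · exact List.nodup_nil
    · intro b b' hne x hx hx'
      dsimp only at hx hx'
      split_ifs at hx with h1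
      · split_ifs at hx' with h2
        · obtain ⟨t, -, rfl⟩ := List.mem_map.mp hx
          obtain ⟨t', -, ht'⟩ := List.mem_map.mp hx'
          exact hne (by simpa using (congr_fun ht' 0).symm)
        · simp at hx'
      · simp at hx

/-- The range of the coordinate `a`. -/
def aRange : List ℤ := (List.range 16).map fun (k : ℕ) => (k : ℤ) - 2

theorem nodup_aRange : aRange.Nodup := by decide +kernel

/-- Classes `v` with `v² = A` and `K·v = B`, with `a` in `aRange`. -/
def clsList (δ : ℕ) (A B : ℤ) : List (DP δ) :=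
  aRange.flatMap fun a =>
    if a * a - A ≤ 168 then (enum δ (B + 3 * a) (a * a - A)).map (Fin.cons a) else []

theorem nodup_clsList (δ : ℕ) (A B : ℤ) : (clsList δ A B).Nodup := by
  refine List.nodup_flatMap.mpr ⟨fun a _ => ?_, nodup_aRange.imp ?_⟩
  · split_ifs
    · exact (nodup_enum _ _ _).map fun x y h => (Fin.cons_right_injective (α := fun _ => ℤ) a) h
    · exact List.nodup_nil
  · intro b b' hne x hx hx'
    dsimp only at hx hx'
    split_ifs at hx with h1
    · split_ifs at hx' with h2
      · obtain ⟨t, -, rfl⟩ := List.mem_map.mp hx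
        obtain ⟨t', -, ht'⟩ := List.mem_map.mp hx'
        exact hne (by simpa using (congr_fun ht' 0).symm)
      · simp at hx'
    · simp at hx

theorem form_canon {δ : ℕ} (v : DP δ) : form (canon δ) v = -3 * v 0 + ∑ i : Fin δ, v i.succ := by
  simp only [form, canon, Fin.cases_zero, Fin.cases_succ, neg_one_mul, Finset.sum_neg_distrib,
    sub_neg_eq_add]

theorem mem_clsList {δ : ℕ} {A B : ℤ} (v : DP δ)
    (h : ∀ a : ℤ, (B + 3 * a) * (B + 3 * a) ≤ δ * (a * a - A) → -2 ≤ a ∧ a ≤ 11)
    (hA : -47 ≤ A) :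
    v ∈ clsList δ A B ↔ form v v = A ∧ form (canon δ) v = B := by
  rw [form_canon]
  simp only [clsList, List.mem_flatMap, form]
  constructor
  · rintro ⟨a, -, hb⟩
    split_ifs at hb with h1
    · obtain ⟨t, ht, rfl⟩ := List.mem_map.mp hb
      obtain ⟨e1, e2⟩ := (mem_enum h1 t).mp ht
      simp only [Fin.cons_zero, Fin.cons_succ]
      omega
    · simp at hb
  · rintro ⟨e1, e2⟩
    have hcs : (∑ i : Fin δ, v i.succ) * (∑ i : Fin δ, v i.succ) ≤
        δ * ∑ i : Fin δ, v i.succ * v i.succ := by
      have := sq_sum_le_card_mul_sum_sq (s := (Finset.univ : Finset (Fin δ))) (f := fun i => v i.succ)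
      simpa [sq] using this
    obtain ⟨ha1, ha2⟩ := h (v 0) (by
      rw [show B + 3 * v 0 = ∑ i : Fin δ, v i.succ by linarith,
        show v 0 * v 0 - A = ∑ i : Fin δ, v i.succ * v i.succ by linarith]; exact hcs)
    have hsq : v 0 * v 0 ≤ 121 := by nlinarith
    refine ⟨v 0, List.mem_map.mpr ⟨(v 0 + 2).toNat, List.mem_range.mpr (by omega), by omega⟩, ?_⟩
    rw [if_pos (by linarith)]
    exact List.mem_map.mpr ⟨Fin.tail v, (mem_enum (by linarith) _).mpr
      ⟨by simp only [Fin.tail]; linarith, by simp only [Fin.tail]; linarith⟩, Fin.cons_self_tail v⟩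

/-- The list of conic classes. -/
def conicList (δ : ℕ) : List (DP δ) := clsList δ 0 (-2)

/-- The list of exceptional classes. -/
def excList (δ : ℕ) : List (DP δ) := clsList δ (-1) (-1)

theorem mem_conicList {δ : ℕ} (hδ : δ ≤ 8) (v : DP δ) : v ∈ conicList δ ↔ IsConic v := by
  refine mem_clsList v (fun a ha => ?_) (by norm_num)
  have h8 : (δ : ℤ) ≤ 8 := by exact_mod_cast hδ
  have : (-2 + 3 * a) * (-2 + 3 * a) ≤ 8 * (a * a) := by nlinarith [mul_self_nonneg a]
  constructor <;> nlinarith

theorem mem_excList {δ : ℕ} (hδ : δ ≤ 8) (v : DP δ) : v ∈ excList δ ↔ IsExc v := by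
  refine mem_clsList v (fun a ha => ?_) (by norm_num)
  have h8 : (δ : ℤ) ≤ 8 := by exact_mod_cast hδ
  have : (-1 + 3 * a) * (-1 + 3 * a) ≤ 8 * (a * a + 1) := by nlinarith [mul_self_nonneg a]
  constructor <;> nlinarith

/-! ### Isometries -/

variable {δ : ℕ}

theorem form_comm (v w : DP δ) : form v w = form w v := by
  simp only [form, mul_comm]

theorem form_add_left (u v w : DP δ) : form (u + v) w = form u w + form v w := by
  simp only [form, Pi.add_apply, add_mul, Finset.sum_add_distrib]; ring

theorem form_smul_left (c : ℤ) (v w : DP δ) : form (c • v) w = c * form v w := by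
  simp only [form, Pi.smul_apply, smul_eq_mul, mul_assoc, ← Finset.mul_sum]; ring

theorem form_add_right (u v w : DP δ) : form u (v + w) = form u v + form u w := by
  rw [form_comm, form_add_left, form_comm v, form_comm w]

theorem form_smul_right (c : ℤ) (v w : DP δ) : form v (c • w) = c * form v w := by
  rw [form_comm, form_smul_left, form_comm w]

/-- The map `v ↦ v + (v·α) α`. -/
def reflHom (α : DP δ) : DP δ →ₗ[ℤ] DP δ where
  toFun v := v + form v α • α
  map_add' u v := by rw [form_add_left, add_smul]; abel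
  map_smul' c v := by simp only [RingHom.id_apply, form_smul_left, smul_add, mul_smul]

/-- The reflection in a root. -/
def refl (α : DP δ) (h : form α α = -2) : DP δ ≃ₗ[ℤ] DP δ :=
  LinearEquiv.ofInvolutive (reflHom α) fun v => by
    change v + form v α • α + form (v + form v α • α) α • α = v
    rw [form_add_left, form_smul_left, h, add_assoc, ← add_smul,
      show form v α + (form v α + form v α * -2) = 0 by ring, zero_smul, add_zero]

theorem refl_apply (α : DP δ) (h : form α α = -2) (v : DP δ) : refl α h v = v + form v α • α := rfl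

theorem isWeyl_refl (α : DP δ) (h : form α α = -2) (hK : form (canon δ) α = 0) :
    IsWeyl (refl α h) := by
  refine ⟨fun v w => ?_, by rw [refl_apply, hK, zero_smul, add_zero]⟩
  simp only [refl_apply, form_add_left, form_smul_left, form_add_right, form_smul_right, h,
    form_comm α w]
  ring

theorem isWeyl_one : IsWeyl (LinearEquiv.refl ℤ (DP δ)) := ⟨fun _ _ => rfl, rfl⟩

theorem isWeyl_trans {g g' : DP δ ≃ₗ[ℤ] DP δ} (h : IsWeyl g) (h' : IsWeyl g') :
    IsWeyl (g.trans g') :=
  ⟨fun v w => by rw [LinearEquiv.trans_apply, LinearEquiv.trans_apply, h'.1, h.1],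
    by rw [LinearEquiv.trans_apply, h.2, h'.2]⟩

theorem isWeyl_symm {g : DP δ ≃ₗ[ℤ] DP δ} (h : IsWeyl g) : IsWeyl g.symm :=
  ⟨fun v w => by
    conv_rhs => rw [← g.apply_symm_apply v, ← g.apply_symm_apply w, h.1],
    g.injective (by rw [g.apply_symm_apply, h.2])⟩

theorem isConic_map {g : DP δ ≃ₗ[ℤ] DP δ} (h : IsWeyl g) {v : DP δ} (hv : IsConic v) : IsConic (g v) :=
  ⟨by rw [h.1, hv.1], by rw [← h.2, h.1, hv.2]⟩

theorem isExc_map {g : DP δ ≃ₗ[ℤ] DP δ} (h : IsWeyl g) {v : DP δ} (hv : IsExc v) : IsExc (g v) :=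
  ⟨by rw [h.1, hv.1], by rw [← h.2, h.1, hv.2]⟩

/-- A linear height. -/
def ht (v : DP δ) : ℤ := 100 * v 0 + ∑ i : Fin δ, ((i.val : ℤ) + 1) * v i.succ

theorem ht_refl (α v : DP δ) (h : form α α = -2) :
    ht (refl α h v) = ht v + form v α * ht α := by
  simp only [refl_apply, ht, Pi.add_apply, Pi.smul_apply, smul_eq_mul, mul_add, Finset.sum_add_distrib,
    Finset.mul_sum]
  have : ∀ i : Fin δ, ((i.val : ℤ) + 1) * (form v α * α i.succ) =
      form v α * (((i.val : ℤ) + 1) * α i.succ) := fun i => by ring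
  simp only [this]
  ring

/-- No reflection in `G` decreases the height. -/
def isTerminal (G : List (DP δ)) (v : DP δ) : Bool :=
  G.all fun α => decide (0 ≤ form v α * ht α)

/-- The terminal elements of a list. -/
def term (G L : List (DP δ)) : List (DP δ) := L.filter (isTerminal G)

/-- `G` consists of roots orthogonal to `F`. -/
def RootList (F G : List (DP δ)) : Prop :=
  ∀ α ∈ G, form α α = -2 ∧ form (canon δ) α = 0 ∧ ∀ f ∈ F, form f α = 0

instance (F G : List (DP δ)) : Decidable (RootList F G) := by unfold RootList; infer_instance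

/-- Descent: every element of a Weyl-stable list moves to a terminal one. -/
theorem descend {F G : List (DP δ)} (hG : RootList F G) {L : List (DP δ)}
    (hL : ∀ (g : DP δ ≃ₗ[ℤ] DP δ), IsWeyl g → ∀ x ∈ L, g x ∈ L) {v : DP δ} (hv : v ∈ L) :
    ∃ g : DP δ ≃ₗ[ℤ] DP δ, IsWeyl g ∧ (∀ f ∈ F, g f = f) ∧ g v ∈ term G L := by
  classical
  let S := L.toFinset.filter fun w => ∃ g : DP δ ≃ₗ[ℤ] DP δ, IsWeyl g ∧ (∀ f ∈ F, g f = f) ∧ g v = w
  have hne : S.Nonempty :=
    ⟨v, Finset.mem_filter.mpr ⟨List.mem_toFinset.mpr hv, LinearEquiv.refl ℤ _, isWeyl_one, fun _ _ => rfl, rfl⟩⟩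
  obtain ⟨w, hw, hmin⟩ := S.exists_min_image ht hne
  obtain ⟨hwL, g, hg, hgF, rfl⟩ := Finset.mem_filter.mp hw
  refine ⟨g, hg, hgF, List.mem_filter.mpr ⟨List.mem_toFinset.mp hwL, ?_⟩⟩
  simp only [isTerminal, List.all_eq_true, decide_eq_true_iff]
  intro α hα
  obtain ⟨h1, h2, h3⟩ := hG α hα
  by_contra hlt
  have hr := isWeyl_refl α h1 h2
  have := hmin (refl α h1 (g v)) (Finset.mem_filter.mpr
    ⟨List.mem_toFinset.mpr (hL _ hr _ (List.mem_toFinset.mp hwL)), g.trans (refl α h1),
      isWeyl_trans hg hr, fun f hf => by rw [LinearEquiv.trans_apply, hgF f hf, refl_apply, h3 f hf,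
        zero_smul, add_zero], rfl⟩)
  rw [ht_refl] at this
  linarith [not_le.mp hlt]

theorem conicList_stable (hδ : δ ≤ 8) (g : DP δ ≃ₗ[ℤ] DP δ) (hg : IsWeyl g) (x : DP δ)
    (hx : x ∈ conicList δ) : g x ∈ conicList δ :=
  (mem_conicList hδ _).mpr (isConic_map hg ((mem_conicList hδ _).mp hx))

theorem excList_stable (hδ : δ ≤ 8) (g : DP δ ≃ₗ[ℤ] DP δ) (hg : IsWeyl g) (x : DP δ)
    (hx : x ∈ excList δ) : g x ∈ excList δ :=
  (mem_excList hδ _).mpr (isExc_map hg ((mem_excList hδ _).mp hx))

/-- The simple roots. -/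
def gens (δ : ℕ) : List (DP δ) :=
  (List.range (δ - 1)).map (fun i j => if j.val = i + 1 then 1 else if j.val = i + 2 then -1 else 0) ++
    (if 3 ≤ δ then [fun j => if j.val < 4 then 1 else 0] else [])

/-- The simple roots orthogonal to all of `F`. -/
def stabGens (F : List (DP δ)) : List (DP δ) :=
  (gens δ).filter fun α => F.all fun f => decide (form f α = 0)

theorem rootList_stabGens (F : List (DP δ)) (h : RootList ([] : List (DP δ)) (gens δ)) :
    RootList F (stabGens F) := fun α hα => by
  obtain ⟨h1, h2⟩ := List.mem_filter.mp hα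
  simp only [List.all_eq_true, decide_eq_true_iff] at h2
  exact ⟨(h α h1).1, (h α h1).2.1, h2⟩

theorem rootList_gens (h2 : 2 ≤ δ) (h8 : δ ≤ 8) : RootList ([] : List (DP δ)) (gens δ) := by
  interval_cases δ <;> decide +kernel

end Groth.Agent.DPLat
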