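import Groth.Agent.Lib.DPLat.Basic
import Mathlib.Tactic.IntervalCases

/-!
Orbit computations for conic and exceptional classes.
-/

namespace Groth.Agent.DPLat

open W4c3severiratdp

variable {δ : ℕ}

/-- The conic class `ℓ - e₁`. -/
def conic₀ (δ : ℕ) : DP δ := fun j => if j.val < 2 then 1 else 0

theorem term_conic (h2 : 2 ≤ δ) (h8 : δ ≤ 8) :
    ∀ v ∈ term (gens δ) (conicList δ), v = conic₀ δ := by
  interval_cases δ <;> decide +kernel

theorem term_conic_stab (h2 : 2 ≤ δ) (h8 : δ ≤ 8) :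
    ∀ v ∈ term (stabGens [conic₀ δ]) (conicList δ), ∀ w ∈ term (stabGens [conic₀ δ]) (conicList δ),
      form (conic₀ δ) v = form (conic₀ δ) w → v = w ∨ (δ = 8 ∧ form (conic₀ δ) v = 4) := by
  interval_cases δ <;> decide +kernel

/-- Every pair of conics moves to a standard first conic and a terminal second one. -/
theorem conic_pair (h2 : 2 ≤ δ) (h8 : δ ≤ 8) {v₁ v₂ : DP δ} (h₁ : IsConic v₁) (h₂ : IsConic v₂) :
    ∃ g : DP δ ≃ₗ[ℤ] DP δ, IsWeyl g ∧ g v₁ = conic₀ δ ∧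
      g v₂ ∈ term (stabGens [conic₀ δ]) (conicList δ) ∧ form (conic₀ δ) (g v₂) = form v₁ v₂ := by
  obtain ⟨g, hg, -, hg1⟩ := descend (rootList_gens h2 h8) (conicList_stable h8)
    ((mem_conicList h8 v₁).mpr h₁)
  have e1 := term_conic h2 h8 _ hg1
  obtain ⟨g', hg', hfix, hg2⟩ := descend (rootList_stabGens [conic₀ δ] (rootList_gens h2 h8))
    (conicList_stable h8) (conicList_stable h8 g hg v₂ ((mem_conicList h8 v₂).mpr h₂))
  refine ⟨g.trans g', isWeyl_trans hg hg', ?_, hg2, ?_⟩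
  · rw [LinearEquiv.trans_apply, e1, hfix _ (by simp)]
  · rw [← (isWeyl_trans hg hg').1 v₁ v₂]
    simp only [LinearEquiv.trans_apply]
    rw [e1, hfix (conic₀ δ) (by simp)]

/-- The exceptional class `e₈`. -/
def exc₀ : DP 8 := ![0, 0, 0, 0, 0, 0, 0, 0, -1]

theorem term_exc : ∀ v ∈ term (gens 8) (excList 8), v = exc₀ := by decide +kernel

theorem term_exc_stab :
    ∀ v ∈ term (stabGens [exc₀]) (excList 8), ∀ w ∈ term (stabGens [exc₀]) (excList 8),
      form exc₀ v = form exc₀ w → v = w := by decide +kernel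

theorem exists_move_exc {L : DP 8} (hL : IsExc L) :
    ∃ g : DP 8 ≃ₗ[ℤ] DP 8, IsWeyl g ∧ g L = exc₀ := by
  obtain ⟨g, hg, -, hg1⟩ := descend (rootList_gens (by norm_num) le_rfl) (excList_stable le_rfl)
    ((mem_excList le_rfl L).mpr hL)
  exact ⟨g, hg, term_exc _ hg1⟩

theorem exists_stab_exc {v : DP 8} (hv : IsExc v) (F : List (DP 8)) :
    ∃ g : DP 8 ≃ₗ[ℤ] DP 8, IsWeyl g ∧ (∀ f ∈ F, g f = f) ∧ g v ∈ term (stabGens F) (excList 8) :=
  descend (rootList_stabGens F (rootList_gens (by norm_num) le_rfl)) (excList_stable le_rfl)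
    ((mem_excList le_rfl v).mpr hv)

end Groth.Agent.DPLat
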